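import Groth.Agent.Coherent.QcohOps
import Groth.Agent.Flatn12.PullbackSections
import Groth.Prelude.Def_QCohCat

/-!
# Maps into push-forwards from affine charts
-/

set_option autoImplicit false
set_option linter.style.haveILetI false
set_option backward.isDefEq.respectTransparency false

universe u

open CategoryTheory CategoryTheory.Limits AlgebraicGeometry Opposite TopologicalSpace
open Groth.Agent.Coherent

namespace Groth.Agent.QCohAff14

variable {X : Scheme.{u}} {U : X.Opens} (hU : IsAffineOpen U)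

/-- The push-forward of an associated module. -/
noncomputable abbrev chartPush (S : ModuleCat.{u} Γ(X, U)) : X.Modules :=
  (Scheme.Modules.pushforward hU.fromSpec).obj (tilde S)

/-- Its functoriality. -/
noncomputable abbrev chartMap {S S' : ModuleCat.{u} Γ(X, U)} (φ : S ⟶ S') : chartPush hU S ⟶ chartPush hU S' :=
  (Scheme.Modules.pushforward hU.fromSpec).map ((tilde.functor Γ(X, U)).map φ)

theorem isQCoh_chartPush [QuasiSeparatedSpace X] (S : ModuleCat.{u} Γ(X, U)) : Coh.IsQCoh (chartPush hU S) := by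
  haveI : Coh.IsQCoh (tilde S) := (isQuasicoherent_iff_isIso_fromTildeΓ _).2
    (isIso_fromTildeΓ_iff.2 ⟨S, ⟨Iso.refl _⟩⟩)
  haveI : QuasiCompact hU.fromSpec := inferInstance
  exact isQCoh_push hU.fromSpec (M := tilde S)

theorem exists_chart_hom (M : X.Modules) [Coh.IsQCoh M] :
    ∃ Θ : ∀ S : ModuleCat.{u} Γ(X, U), (M ⟶ chartPush hU S) ≃ (Γ(M, U) →ₗ[Γ(X, U)] S),
      ∀ (S S' : ModuleCat.{u} Γ(X, U)) (h : M ⟶ chartPush hU S) (φ : S ⟶ S'),
        Θ S' (h ≫ chartMap hU φ) = φ.hom ∘ₗ Θ S h := by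
  haveI := Flatn12.isQCoh_restrict_fromSpec' M hU
  obtain ⟨N, L, eT⟩ : Σ' (N : ModuleCat.{u} Γ(X, U)) (_ : N ≃ₗ[Γ(X, U)] Γ(M, U)),
      tilde N ≅ M.restrict hU.fromSpec :=
    ⟨moduleSpecΓFunctor.obj (M.restrict hU.fromSpec), Flatn12.secEquiv hU M,
      asIso (M.restrict hU.fromSpec).fromTildeΓ⟩
  let a : ∀ S : ModuleCat.{u} Γ(X, U), (M ⟶ chartPush hU S) ≃ (M.restrict hU.fromSpec ⟶ tilde S) := fun S =>
    ((Scheme.Modules.restrictAdjunction hU.fromSpec).homEquiv M (tilde S)).symm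
  let c : ∀ S : ModuleCat.{u} Γ(X, U), (tilde N ⟶ tilde S) ≃ (N ⟶ S) := fun S =>
    (tilde.fullyFaithfulFunctor.homEquiv (X := N) (Y := S)).symm
  refine ⟨fun S =>
    { toFun := fun h => (c S (eT.hom ≫ a S h)).hom ∘ₗ L.symm.toLinearMap
      invFun := fun φ => (a S).symm (eT.inv ≫ (c S).symm (ModuleCat.ofHom (φ ∘ₗ L.toLinearMap)))
      left_inv := fun h => by
        refine (a S).injective ?_
        rw [Equiv.apply_symm_apply]
        refine (cancel_epi eT.hom).1 ?_
        rw [Iso.hom_inv_id_assoc]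
        refine (c S).injective ?_
        rw [Equiv.apply_symm_apply]
        refine ModuleCat.hom_ext (LinearMap.ext fun x => ?_)
        exact congrArg (c S (eT.hom ≫ a S h)).hom (L.symm_apply_apply x)
      right_inv := fun φ => LinearMap.ext fun x => by
        beta_reduce
        rw [Equiv.apply_symm_apply, Iso.hom_inv_id_assoc, Equiv.apply_symm_apply]
        exact congrArg φ (L.apply_symm_apply x) }, fun S S' h φ => ?_⟩
  show (c S' (eT.hom ≫ a S' (h ≫ chartMap hU φ))).hom ∘ₗ L.symm.toLinearMap =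
    φ.hom ∘ₗ ((c S (eT.hom ≫ a S h)).hom ∘ₗ L.symm.toLinearMap)
  have h1 : a S' (h ≫ chartMap hU φ) = a S h ≫ (tilde.functor Γ(X, U)).map φ :=
    Adjunction.homEquiv_naturality_right_symm (Scheme.Modules.restrictAdjunction hU.fromSpec) h _
  have h2 : c S' (eT.hom ≫ a S' (h ≫ chartMap hU φ)) = c S (eT.hom ≫ a S h) ≫ φ := by
    refine (c S').symm.injective ?_
    rw [Equiv.symm_apply_apply, h1]
    show _ = (tilde.functor Γ(X, U)).map (_ ≫ φ)
    rw [Functor.map_comp]
    refine (Category.assoc _ _ _).symm.trans (congrArg (· ≫ _) ?_)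
    exact ((c S).symm_apply_apply _).symm
  rw [h2, ModuleCat.hom_comp, LinearMap.comp_assoc]

end Groth.Agent.QCohAff14
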