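import Mathlib.Algebra.Category.ModuleCat.Abelian
import Mathlib.Algebra.Category.ModuleCat.Projective
import Mathlib.CategoryTheory.Preadditive.AdditiveFunctor
import Mathlib.CategoryTheory.Preadditive.Projective.Basic
import Mathlib.CategoryTheory.Simple
import Mathlib.LinearAlgebra.Dual.Lemmas

/-!
# Categories equivalent to modules over a commutative ring
-/

set_option autoImplicit false
set_option linter.style.haveILetI false
set_option linter.unusedSectionVars false

universe u v w

open CategoryTheory CategoryTheory.Limits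

namespace Groth.Agent.QCohAff14

/-- A vector space on which only scalars commute with the scalars is at most a line. -/
theorem exists_endo_of_field {R : Type u} [CommRing R] {F : Type v} [AddCommGroup F] [Module R F]
    (hcomm : ∀ φ ψ : F →ₗ[R] F, φ ∘ₗ ψ = ψ ∘ₗ φ)
    (hinv : ∀ φ : F →ₗ[R] F, φ ≠ 0 → Function.Bijective φ) {v : F} (hv : v ≠ 0) (w : F) :
    ∃ φ : F →ₗ[R] F, φ v = w := by
  classical
  haveI : Nontrivial (Module.End R F) := ⟨⟨1, 0, fun h => hv (LinearMap.congr_fun h v)⟩⟩
  letI : CommRing (Module.End R F) := { (inferInstance : Ring (Module.End R F)) with mul_comm := hcomm }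
  have hf : IsField (Module.End R F) := ⟨⟨0, 1, zero_ne_one⟩, hcomm, fun {φ} hφ =>
    ⟨(LinearEquiv.ofBijective φ (hinv φ hφ)).symm.toLinearMap, LinearMap.ext fun x =>
      (LinearEquiv.ofBijective φ (hinv φ hφ)).apply_symm_apply x⟩⟩
  letI : Field (Module.End R F) := hf.toField
  obtain ⟨l, hl⟩ : ∃ l : Module.Dual (Module.End R F) F, l v ≠ 0 :=
    Module.Projective.exists_dual_ne_zero _ hv
  let ψ : F →ₗ[R] F :=
    { toFun := fun x => ((l v)⁻¹ * l x : Module.End R F) w
      map_add' := fun x y => by rw [map_add, mul_add]; rfl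
      map_smul' := fun r x => by
        have hr : r • x = (r • (1 : Module.End R F)) • x := rfl
        rw [hr, map_smul, smul_eq_mul, mul_left_comm, RingHom.id_apply]
        rfl }
  refine ⟨ψ, ?_⟩
  show ((l v)⁻¹ * l v : Module.End R F) w = w
  rw [inv_mul_cancel₀ hl]
  rfl

variable {C : Type w} [Category.{v} C] [Preadditive C] {R : Type v} [CommRing R]
  (e : C ≌ ModuleCat.{v} R)

/-- The object corresponding to the ring. -/
noncomputable abbrev gen : C := e.inverse.obj (ModuleCat.of R R)

/-- Maps out of `gen` are elements. -/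
noncomputable def elt {S : C} (f : gen e ⟶ S) : e.functor.obj S :=
  ((e.symm.toAdjunction.homEquiv (ModuleCat.of R R) S) f).hom (1 : R)

/-- The map given by an element. -/
noncomputable def ofElt {S : C} (x : e.functor.obj S) : gen e ⟶ S :=
  ((e.symm.toAdjunction.homEquiv (ModuleCat.of R R) S)).symm
    (ModuleCat.ofHom (LinearMap.toSpanSingleton R _ x))

theorem elt_ofElt {S : C} (x : e.functor.obj S) : elt e (ofElt e x) = x := by
  rw [elt, ofElt, Equiv.apply_symm_apply]
  exact one_smul R x

theorem elt_injective {S : C} {f g : gen e ⟶ S} (h : elt e f = elt e g) : f = g := by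
  refine (e.symm.toAdjunction.homEquiv (ModuleCat.of R R) S).injective (ModuleCat.hom_ext ?_)
  exact LinearMap.ext_ring h

theorem elt_comp {S S' : C} (f : gen e ⟶ S) (g : S ⟶ S') : elt e (f ≫ g) = e.functor.map g (elt e f) := by
  rw [elt, e.symm.toAdjunction.homEquiv_naturality_right]
  rfl

theorem projective_gen : Projective (gen e) := by
  refine ⟨fun {E X} f π _ => ?_⟩
  obtain ⟨z, hz⟩ := (ModuleCat.epi_iff_surjective (e.functor.map π)).1 inferInstance (elt e f)
  exact ⟨ofElt e z, elt_injective e (by rw [elt_comp, elt_ofElt, hz])⟩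

theorem eq_zero_of_gen [e.functor.Additive] {S S' : C} (q : S ⟶ S') (h : ∀ f : gen e ⟶ S, f ≫ q = 0) :
    q = 0 := by
  refine e.functor.map_injective (ModuleCat.hom_ext (LinearMap.ext fun x => ?_))
  have := congrArg (elt e) (h (ofElt e x))
  rw [elt_comp, elt_ofElt] at this
  refine this.trans ?_
  have h0 : elt e (0 : gen e ⟶ S') = 0 := by
    conv_lhs => rw [show (0 : gen e ⟶ S') = (0 : gen e ⟶ S') ≫ (0 : S' ⟶ S') from comp_zero.symm, elt_comp,
      e.functor.map_zero]
    rfl
  rw [h0, e.functor.map_zero]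
  rfl

theorem elt_add [e.functor.Additive] {S : C} (f g : gen e ⟶ S) : elt e (f + g) = elt e f + elt e g := by
  have hu : ∀ h : gen e ⟶ S, elt e h = e.functor.map h (elt e (𝟙 _)) := fun h => by
    rw [← elt_comp, Category.id_comp]
  rw [hu (f + g), hu f, hu g, e.functor.map_add]
  rfl

theorem exists_comp_eq [e.functor.Additive] {S : C} (hcomm : ∀ a b : S ⟶ S, a ≫ b = b ≫ a)
    (hinv : ∀ a : S ⟶ S, a ≠ 0 → IsIso a) {f : gen e ⟶ S} (hf : f ≠ 0) (g : gen e ⟶ S) :
    ∃ a : S ⟶ S, f ≫ a = g := by
  have hv : elt e f ≠ 0 := fun h => hf (elt_injective e (h.trans (by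
    have h2 := elt_add e (0 : gen e ⟶ S) 0
    rwa [add_zero, left_eq_add, eq_comm] at h2)))
  obtain ⟨φ, hφ⟩ := exists_endo_of_field (R := R) (F := e.functor.obj S) (fun φ ψ => by
      have h := congrArg (fun a => (e.functor.map a).hom)
        (hcomm (e.functor.preimage (ModuleCat.ofHom ψ)) (e.functor.preimage (ModuleCat.ofHom φ)))
      simpa using h) (fun φ hφ => by
      haveI := hinv (e.functor.preimage (ModuleCat.ofHom φ)) fun h => hφ (by
        have h2 := congrArg (fun a => (e.functor.map a).hom) h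
        simpa using h2)
      have h3 : IsIso (e.functor.map (e.functor.preimage (ModuleCat.ofHom φ))) := inferInstance
      rw [Functor.map_preimage] at h3
      exact ConcreteCategory.bijective_of_isIso (ModuleCat.ofHom φ)) hv (elt e g)
  exact ⟨e.functor.preimage (ModuleCat.ofHom φ), elt_injective e (by
    rw [elt_comp, Functor.map_preimage]; exact hφ)⟩

theorem exists_finite_of_epi_family [e.functor.Additive] {ι : Type*} {G : ι → C}
    (g : ∀ i, G i ⟶ gen e) (h : ∀ (Q : C) (q : gen e ⟶ Q), (∀ i, g i ≫ q = 0) → q = 0) :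
    ∃ (n : ℕ) (p : Fin n → Σ i, gen e ⟶ G i), ∑ k, (p k).2 ≫ g (p k).1 = 𝟙 (gen e) := by
  classical
  let F := e.functor.obj (gen e)
  let T : Submodule R F := Submodule.span R (⋃ i, Set.range (e.functor.map (g i)))
  have hq : ModuleCat.ofHom T.mkQ = 0 := by
    let q : gen e ⟶ e.inverse.obj (ModuleCat.of R (F ⧸ T)) :=
      e.functor.preimage (ModuleCat.ofHom T.mkQ ≫ (e.counitIso.app _).inv)
    have hq0 : q = 0 := h _ q fun i => e.functor.map_injective (by
      rw [e.functor.map_comp, Functor.map_preimage, ← Category.assoc, e.functor.map_zero]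
      have h1 : e.functor.map (g i) ≫ ModuleCat.ofHom T.mkQ = 0 := ModuleCat.hom_ext (LinearMap.ext fun x =>
        (Submodule.Quotient.mk_eq_zero T).2 (Submodule.subset_span (Set.mem_iUnion.2 ⟨i, x, rfl⟩)))
      rw [h1, zero_comp])
    have h2 : ModuleCat.ofHom T.mkQ ≫ (e.counitIso.app _).inv = 0 := by
      rw [← e.functor.map_preimage (ModuleCat.ofHom T.mkQ ≫ (e.counitIso.app _).inv)]
      exact (congrArg e.functor.map hq0).trans (e.functor.map_zero _ _)
    exact (cancel_mono (e.counitIso.app _).inv).1 (h2.trans zero_comp.symm)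
  have h1 : elt e (𝟙 (gen e)) ∈ T := (Submodule.Quotient.mk_eq_zero T).1
    (LinearMap.congr_fun (congrArg ModuleCat.Hom.hom hq) _)
  have hsum : ∀ {n : ℕ} (p : Fin n → Σ i, gen e ⟶ G i),
      elt e (∑ k, (p k).2 ≫ g (p k).1) = ∑ k, e.functor.map (g (p k).1) (elt e (p k).2) := fun p => by
    let φ : (gen e ⟶ gen e) →+ F := AddMonoidHom.mk' (elt e) (elt_add e)
    show φ _ = _
    rw [map_sum]
    exact Finset.sum_congr rfl fun k _ => elt_comp e _ _
  have key : ∀ x ∈ T, ∃ (n : ℕ) (p : Fin n → Σ i, gen e ⟶ G i),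
      ∑ k, e.functor.map (g (p k).1) (elt e (p k).2) = x := by
    intro x hx
    induction hx using Submodule.span_induction with
    | mem y hy =>
      obtain ⟨i, z, rfl⟩ := Set.mem_iUnion.1 hy
      exact ⟨1, fun _ => ⟨i, ofElt e z⟩, by simp [elt_ofElt]⟩
    | zero => exact ⟨0, finZeroElim, by simp⟩
    | add y z _ _ hy hz =>
      obtain ⟨n, p, rfl⟩ := hy
      obtain ⟨m, p', rfl⟩ := hz
      refine ⟨n + m, Fin.append p p', ?_⟩
      let φ : (Σ i, gen e ⟶ G i) → F := fun q => e.functor.map (g q.1) (elt e q.2)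
      show ∑ k, φ (Fin.append p p' k) = ∑ k, φ (p k) + ∑ k, φ (p' k)
      rw [Fin.sum_univ_add]
      congr 1 <;> refine Finset.sum_congr rfl fun k _ => congrArg φ ?_
      · exact Fin.append_left p p' k
      · exact Fin.append_right p p' k
    | smul r y _ hy =>
      obtain ⟨n, p, rfl⟩ := hy
      refine ⟨n, fun k => ⟨(p k).1, ofElt e (r • elt e (p k).2)⟩, ?_⟩
      rw [Finset.smul_sum]
      exact Finset.sum_congr rfl fun k _ => by rw [elt_ofElt]; exact map_smul _ _ _
  obtain ⟨n, p, hp⟩ := key _ h1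
  exact ⟨n, p, elt_injective e ((hsum p).trans hp)⟩

end Groth.Agent.QCohAff14
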