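import Groth.Agent.QCohAff14.Sections
import Groth.Agent.Coherent.Affineness
import Groth.Agent.Coherent.TensorQcoh
import Groth.Agent.EulerLib.Twist
import Groth.Agent.AmpleLib.Twist

/-!
# A scheme whose quasi-coherent modules are the modules over a commutative ring is affine
-/

set_option autoImplicit false
set_option linter.style.haveILetI false
set_option linter.unusedSectionVars false
set_option backward.isDefEq.respectTransparency.types false

universe u

open CategoryTheory CategoryTheory.Limits AlgebraicGeometry Opposite TopologicalSpace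
open Groth.Agent.Coherent Groth.Agent.AmpleLib Groth.Agent.PicLib

namespace Groth.Agent.QCohAff14

variable {X : Scheme.{u}}

/-- Spanning by one section passes to a basic open on which a multiplier is invertible. -/
theorem span_basic {M : X.Modules} [Coh.IsQCoh M] {U : X.Opens} (hU : IsAffineOpen U) {p : Γ(M, U)}
    {f : Γ(X, U)} (h : ∀ x, f • x ∈ Submodule.span Γ(X, U) {p}) (g : Γ(X, U))
    (hg : X.basicOpen g ≤ X.basicOpen f) (s : Γ(M, X.basicOpen g)) :
    ∃ c : Γ(X, X.basicOpen g), c • resM M (X.basicOpen_le g) p = s := by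
  obtain ⟨n, t, ht⟩ := qcoh_exists_pow_smul hU M g s
  obtain ⟨b, hb⟩ := Submodule.mem_span_singleton.1 (h t)
  let ρ : Γ(X, U) →+* Γ(X, X.basicOpen g) := (X.presheaf.map (homOfLE (X.basicOpen_le g)).op).hom
  have h1 : IsUnit (ρ f * ρ (g ^ n)) :=
    IsUnit.mul (by simpa using isUnit_res_pow f (X.basicOpen_le g) hg 1) (isUnit_res_pow g (X.basicOpen_le g) le_rfl n)
  obtain ⟨w, hw⟩ := h1.exists_left_inv
  refine ⟨w * ρ b, ?_⟩
  have h2 : ρ b • resM M (X.basicOpen_le g) p = (ρ f * ρ (g ^ n)) • s := by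
    show (X.presheaf.map (homOfLE (X.basicOpen_le g)).op b) • resM M (X.basicOpen_le g) p = _
    rw [← resM_smul, hb, resM_smul, ht, smul_smul]
  rw [mul_smul, h2, smul_smul, hw, one_smul]

/-- A generator, tested on basic opens of an affine open. -/
theorem isGen_of_basic {M : X.Modules} {W : X.Opens} (hW : IsAffineOpen W) (p : Γ(M, W))
    (hb : ∀ g : Γ(X, W), Function.Bijective
      (fun r : Γ(X, X.basicOpen g) => r • resM M (X.basicOpen_le g) p)) :
    IsGen M W p := by
  have hcov : ∀ V : X.Opens, V ≤ W → V ≤ ⨆ g : {g : Γ(X, W) // X.basicOpen g ≤ V}, X.basicOpen g.1 :=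
    fun V hV y hy => by
      obtain ⟨g, hgV, hyg⟩ := hW.exists_basicOpen_le ⟨y, hy⟩ (hV hy)
      exact Opens.mem_iSup.2 ⟨⟨g, hgV⟩, hyg⟩
  have hinj : ∀ (V : X.Opens) (hV : V ≤ W), Function.Injective (fun r : Γ(X, V) => r • resM M hV p) :=
    fun V hV a b hab => by
      refine TopCat.Sheaf.eq_of_locally_eq' X.sheaf _ V (fun g => homOfLE g.2) (hcov V hV) a b fun g => ?_
      refine (hb g.1).1 ?_
      have h2 := congrArg (resM M g.2) hab
      simp only [resM_smul, resM_resM] at h2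
      exact h2
  refine fun V hV => ⟨hinj V hV, fun x => ?_⟩
  choose c hc using fun g : {g : Γ(X, W) // X.basicOpen g ≤ V} => (hb g.1).2 (resM M g.2 x)
  obtain ⟨a, ha⟩ : ∃ a : Γ(X, V), ∀ g : {g : Γ(X, W) // X.basicOpen g ≤ V},
      X.presheaf.map (homOfLE g.2).op a = c g :=
    (TopCat.Sheaf.existsUnique_gluing' X.sheaf _ V (fun g => homOfLE g.2) (hcov V hV) c (fun g g' => by
      refine hinj _ (inf_le_left.trans (X.basicOpen_le g.1)) ?_
      have h1 := congrArg (resM M (inf_le_left : X.basicOpen g.1 ⊓ X.basicOpen g'.1 ≤ _)) (hc g)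
      have h2 := congrArg (resM M (inf_le_right : X.basicOpen g.1 ⊓ X.basicOpen g'.1 ≤ _)) (hc g')
      simp only [resM_smul, resM_resM] at h1 h2
      exact h1.trans h2.symm)).exists
  refine ⟨a, TopCat.Sheaf.eq_of_locally_eq' (⟨M.presheaf, M.isSheaf⟩ : TopCat.Sheaf Ab X) _ V
    (fun g => homOfLE g.2) (hcov V hV) _ _ fun g => ?_⟩
  show resM M g.2 (a • resM M hV p) = resM M g.2 x
  rw [resM_smul, resM_resM, ha g]
  exact hc g

variable [CompactSpace X] [QuasiSeparatedSpace X] {R : Type u} [CommRing R]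
  (e : QCohCat.QCoh X ≌ ModuleCat.{u} R)

theorem exists_isGen_near {x : X} (hx : IsClosed ({x} : Set X)) :
    ∃ (W : X.Opens), x ∈ W ∧ ∃ p : Γ(genMod e, W), IsGen (genMod e) W p := by
  haveI := isQCoh_genMod e
  obtain ⟨U, hU, hxU, -⟩ := Opens.isBasis_iff_nbhd.mp X.isBasis_affineOpens (Opens.mem_top x)
  haveI : (hU.primeIdealOf ⟨x, hxU⟩).asIdeal.IsMaximal := hU.primeIdealOf_isMaximal_of_isClosed ⟨x, hxU⟩ hx
  obtain ⟨p, f, hf, hspan⟩ := exists_cyclic e hU (hU.primeIdealOf ⟨x, hxU⟩).asIdeal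
  have hxf : x ∈ X.basicOpen f := by
    have h1 : hU.fromSpec (hU.primeIdealOf ⟨x, hxU⟩) ∈ X.basicOpen f := by
      rw [← Scheme.Hom.mem_preimage, hU.fromSpec_preimage_basicOpen]
      exact hf
    rwa [hU.fromSpec_primeIdealOf ⟨x, hxU⟩] at h1
  refine ⟨_, hxf, resM _ (X.basicOpen_le f) p, isGen_of_basic (hU.basicOpen f) _ fun g => ?_⟩
  have hW : IsAffineOpen (X.basicOpen g) := (hU.basicOpen f).basicOpen g
  have hs := span_basic (hU.basicOpen f) (M := genMod e) (p := resM _ (X.basicOpen_le f) p) (f := 1)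
    (fun y => by
      obtain ⟨c, hc⟩ := span_basic hU hspan f le_rfl y
      rw [one_smul]
      exact Submodule.mem_span_singleton.2 ⟨c, hc⟩) g
    (by rw [Scheme.basicOpen_of_isUnit _ isUnit_one]; exact X.basicOpen_le g)
  refine ⟨fun a b hab => sub_eq_zero.1 (eq_zero_of_smul_eq_zero e hW (a - b) fun y => ?_), hs⟩
  obtain ⟨c, rfl⟩ := hs y
  rw [smul_comm, sub_smul, sub_eq_zero.2 hab, smul_zero]

theorem isInvertible_genMod : PicF.IsInvertible (genMod e) := by
  refine isInvertible_of_gens fun y => ?_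
  obtain ⟨x, hx, hxc⟩ := (isClosed_closure (s := ({y} : Set X))).exists_closed_singleton
    ⟨y, subset_closure rfl⟩
  obtain ⟨W, hxW, p, hp⟩ := exists_isGen_near e hxc
  obtain ⟨z, hzW, rfl⟩ := mem_closure_iff.1 hx _ W.2 hxW
  exact ⟨W, hzW, p, hp⟩

/-- Twisting by an invertible module from which lifts exist gives lifts of global sections. -/
theorem surjective_top_of_lift {P G G' : X.Modules} (hP : PicF.IsInvertible P) (g : G ⟶ G')
    (hlift : ∀ φ : P ⟶ CohB1.tensorMod G' P, ∃ t : P ⟶ CohB1.tensorMod G P, t ≫ tensorMap g (𝟙 P) = φ) :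
    Function.Surjective (g.app (⊤ : X.Opens)) := by
  intro s
  obtain ⟨U, p, hy, hp⟩ := exists_cover hP
  have hU : iSup U = ⊤ := top_le_iff.1 fun y _ => Opens.mem_iSup.2 ⟨y, hy y⟩
  obtain ⟨φ, hφ⟩ := exists_hom_of_gen U hU p hp
    (fun i => tmul (resM G' (le_top : U i ≤ ⊤) s) (p i)) fun i j W hi hj c h => by
      rw [resM_tmul, resM_tmul, resM_resM, resM_resM, h, tmul_smul_right]
  obtain ⟨t, ht⟩ := hlift φ
  choose a ha using fun i => (bijective_tmul_gen (M := G) (hp i) (U i) le_rfl).2 (t.app (U i) (p i))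
  simp only [resM_self] at ha
  have key : ∀ i (W : X.Opens) (hW : W ≤ U i),
      tmul (resM G hW (a i)) (resM P hW (p i)) = t.app W (resM P hW (p i)) := fun i W hW => by
    rw [← resM_tmul, ha, app_resM]
  obtain ⟨A, hA⟩ : ∃ A : Γ(G, ⊤), ∀ i, resM G (le_top : U i ≤ ⊤) A = a i :=
    (TopCat.Sheaf.existsUnique_gluing' (⟨G.presheaf, G.isSheaf⟩ : TopCat.Sheaf Ab X) U ⊤
      (fun i => homOfLE le_top) hU.ge a (fun i j => by
        set W := U i ⊓ U j
        have hi : W ≤ U i := inf_le_left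
        have hj : W ≤ U j := inf_le_right
        refine (bijective_tmul_gen (M := G) (hp i) W hi).1 ?_
        show tmul (resM G hi (a i)) (resM P hi (p i)) = tmul (resM G hj (a j)) (resM P hi (p i))
        rw [key i W hi]
        have h1 := (hp j).coef_spec hj (resM P hi (p i))
        conv_rhs => rw [← h1, tmul_smul_right, key j W hj, ← Scheme.Modules.Hom.app_smul, h1])).exists
  refine ⟨A, TopCat.Sheaf.eq_of_locally_eq' (⟨G'.presheaf, G'.isSheaf⟩ : TopCat.Sheaf Ab X) U ⊤
    (fun i => homOfLE le_top) hU.ge _ _ fun i => ?_⟩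
  show resM G' (le_top : U i ≤ ⊤) (g.app ⊤ A) = resM G' le_top s
  rw [← app_resM, hA]
  refine (bijective_tmul_gen (M := G') (hp i) (U i) le_rfl).1 ?_
  simp only [resM_self]
  refine Eq.trans ?_ (hφ i)
  rw [← ht]
  show _ = (tensorMap g (𝟙 P)).app (U i) (t.app (U i) (p i))
  rw [← ha i, tensorMap_tmul]
  rfl

include e in
theorem isAffine_of_equiv : IsAffine X := by
  refine isAffine_of_sectionsExact fun S n φ hS hn h₁ h₂ h₃ => ?_
  have hP := isInvertible_genMod e
  haveI := isQCoh_genMod e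
  haveI := h₂
  haveI := h₃
  haveI := hS.epi_g
  refine surjective_top_of_lift hP S.g fun ψ => ?_
  let A : QCohCat.QCoh X := ⟨CohB1.tensorMod S.X₂ (genMod e), isQCoh_tensorMod _ _⟩
  let A' : QCohCat.QCoh X := ⟨CohB1.tensorMod S.X₃ (genMod e), isQCoh_tensorMod _ _⟩
  let π : A ⟶ A' := ObjectProperty.homMk (tensorMap S.g (𝟙 (genMod e)))
  haveI : Epi ((QCohCat.isQCoh X).ι.map π) := EulerLib.epi_tensorMap hP S.g
  haveI : Epi π := (QCohCat.isQCoh X).ι.epi_of_epi_map inferInstance
  haveI := projective_gen e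
  refine ⟨(Projective.factorThru (ObjectProperty.homMk ψ : gen e ⟶ A') π).hom, ?_⟩
  exact congrArg (fun z : gen e ⟶ A' => z.hom)
    (Projective.factorThru_comp (ObjectProperty.homMk ψ : gen e ⟶ A') π)

end Groth.Agent.QCohAff14
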