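import Groth.Agent.QCohAff14.Equiv
import Groth.Agent.QCohAff14.Chart
import Groth.Agent.SerreDual.QCohCat
import Mathlib.RingTheory.Nakayama

/-!
# The generator is locally cyclic and faithful
-/

set_option autoImplicit false
set_option linter.style.haveILetI false
set_option linter.unusedSectionVars false
set_option backward.isDefEq.respectTransparency.types false

universe u

open CategoryTheory CategoryTheory.Limits AlgebraicGeometry Opposite TopologicalSpace
open Groth.Agent.Coherent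

namespace Groth.Agent.QCohAff14

variable {X : Scheme.{u}} [CompactSpace X] [QuasiSeparatedSpace X] {R : Type u} [CommRing R]
  (e : QCohCat.QCoh X ≌ ModuleCat.{u} R)

instance additive_functor : e.functor.Additive := by
  haveI : HasFiniteCoproducts (QCohCat.QCoh X) := ⟨fun n => hasColimitsOfShape_of_equivalence
    (Discrete.equivalence (Equiv.ulift.{u} : ULift.{u} (Fin n) ≃ Fin n))⟩
  haveI : HasBinaryBiproducts (QCohCat.QCoh X) := HasBinaryBiproducts.of_hasBinaryCoproducts
  haveI := preservesBinaryBiproducts_of_preservesBinaryCoproducts e.functor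
  exact Functor.additive_of_preservesBinaryBiproducts _

/-- The module underlying the generator. -/
noncomputable abbrev genMod : X.Modules := (gen e).obj

theorem isQCoh_genMod : Coh.IsQCoh (genMod e) := (gen e).property

theorem chartMap_zero {U : X.Opens} (hU : IsAffineOpen U) (S S' : ModuleCat.{u} Γ(X, U)) :
    chartMap hU (0 : S ⟶ S') = 0 := by
  show (Scheme.Modules.pushforward hU.fromSpec).map ((tilde.functor Γ(X, U)).map 0) = 0
  rw [Functor.map_zero, Functor.map_zero]

theorem separates {U : X.Opens} (hU : IsAffineOpen U) {S S' : ModuleCat.{u} Γ(X, U)} (q : S ⟶ S')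
    (h : ∀ a : Γ(genMod e, U) →ₗ[Γ(X, U)] S, q.hom ∘ₗ a = 0) : q = 0 := by
  haveI := isQCoh_genMod e
  obtain ⟨Θ, hΘ⟩ := exists_chart_hom hU (genMod e)
  let Q : ModuleCat.{u} Γ(X, U) → QCohCat.QCoh X := fun T => ⟨chartPush hU T, isQCoh_chartPush hU T⟩
  have h0 : (ObjectProperty.homMk (chartMap hU q) : Q S ⟶ Q S') = 0 := eq_zero_of_gen e _ fun f => by
    refine ObjectProperty.hom_ext _ ((Θ S').injective ?_)
    show Θ S' (f.hom ≫ chartMap hU q) = Θ S' 0
    rw [hΘ, h, ← comp_zero (f := f.hom), ← chartMap_zero hU S S', hΘ, ModuleCat.hom_zero, LinearMap.zero_comp]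
  have h1 : chartMap hU q = 0 := congrArg (fun a : Q S ⟶ Q S' => a.hom) h0
  refine (tilde.functor Γ(X, U)).map_injective ((Scheme.Modules.pushforward hU.fromSpec).map_injective ?_)
  exact h1.trans (chartMap_zero hU S S').symm

theorem eq_zero_of_smul_eq_zero {U : X.Opens} (hU : IsAffineOpen U) (a : Γ(X, U))
    (ha : ∀ x : Γ(genMod e, U), a • x = 0) : a = 0 := by
  let K : Ideal Γ(X, U) := LinearMap.ker (LinearMap.toSpanSingleton Γ(X, U) Γ(X, U) a)
  have h := separates e hU (ModuleCat.ofHom K.mkQ) fun φ => LinearMap.ext fun x =>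
    (Submodule.Quotient.mk_eq_zero K).2 (by
      show φ x • a = 0
      rw [smul_eq_mul, mul_comm, ← smul_eq_mul, ← map_smul, ha, map_zero])
  have h1 : (1 : Γ(X, U)) ∈ K :=
    (Submodule.Quotient.mk_eq_zero K).1 (LinearMap.congr_fun (congrArg ModuleCat.Hom.hom h) 1)
  have h2 : (1 : Γ(X, U)) • a = 0 := h1
  rwa [one_smul] at h2

theorem exists_scalar {U : X.Opens} (hU : IsAffineOpen U) (m : Ideal Γ(X, U)) [m.IsMaximal]
    {a : Γ(genMod e, U) →ₗ[Γ(X, U)] Γ(X, U) ⧸ m} (ha : a ≠ 0) (b : Γ(genMod e, U) →ₗ[Γ(X, U)] Γ(X, U) ⧸ m) :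
    ∃ c : (Γ(X, U) ⧸ m) →ₗ[Γ(X, U)] Γ(X, U) ⧸ m, c ∘ₗ a = b := by
  haveI := isQCoh_genMod e
  obtain ⟨Θ, hΘ⟩ := exists_chart_hom hU (genMod e)
  let S : ModuleCat.{u} Γ(X, U) := ModuleCat.of Γ(X, U) (Γ(X, U) ⧸ m)
  let Q : QCohCat.QCoh X := ⟨chartPush hU S, isQCoh_chartPush hU S⟩
  let F := (Scheme.Modules.pushforward hU.fromSpec)
  have hsur : ∀ x : Q ⟶ Q, ∃ c : S ⟶ S, x.hom = chartMap hU c := fun x =>
    ⟨(tilde.functor Γ(X, U)).preimage (F.preimage x.hom), by
      show x.hom = F.map ((tilde.functor Γ(X, U)).map _)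
      rw [Functor.map_preimage, Functor.map_preimage]⟩
  have hmul : ∀ (c : S ⟶ S) (x : Γ(X, U) ⧸ m), c.hom x = x * c.hom (Ideal.Quotient.mk m 1) := fun c x => by
    obtain ⟨r, rfl⟩ := Ideal.Quotient.mk_surjective x
    have hr : (Ideal.Quotient.mk m r : Γ(X, U) ⧸ m) = r • Ideal.Quotient.mk m 1 := by
      rw [Algebra.smul_def, map_one, mul_one]; rfl
    conv_lhs => rw [hr, map_smul]
    rw [Algebra.smul_def]
    rfl
  have hcomm : ∀ x y : Q ⟶ Q, x ≫ y = y ≫ x := fun x y => by
    obtain ⟨c, hc⟩ := hsur x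
    obtain ⟨c', hc'⟩ := hsur y
    refine ObjectProperty.hom_ext _ ?_
    show x.hom ≫ y.hom = y.hom ≫ x.hom
    have h : c ≫ c' = c' ≫ c := ModuleCat.hom_ext (LinearMap.ext fun z => by
      show c'.hom (c.hom z) = c.hom (c'.hom z)
      rw [hmul c' (c.hom z), hmul c (c'.hom z), hmul c z, hmul c' z, mul_right_comm])
    rw [hc, hc']
    show F.map ((tilde.functor Γ(X, U)).map c) ≫ F.map ((tilde.functor Γ(X, U)).map c') =
      F.map ((tilde.functor Γ(X, U)).map c') ≫ F.map ((tilde.functor Γ(X, U)).map c)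
    rw [← F.map_comp, ← F.map_comp, ← Functor.map_comp, ← Functor.map_comp, h]
  have hinv : ∀ x : Q ⟶ Q, x ≠ 0 → IsIso x := fun x hx => by
    obtain ⟨c, hc⟩ := hsur x
    have hc0 : c.hom (Ideal.Quotient.mk m 1) ≠ 0 := fun h => hx (by
      refine ObjectProperty.hom_ext _ ?_
      have : c = 0 := ModuleCat.hom_ext (LinearMap.ext fun z => by rw [hmul c z, h, mul_zero]; rfl)
      show x.hom = 0
      rw [hc, this, chartMap_zero])
    haveI : IsIso c := by
      letI := Ideal.Quotient.field m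
      refine (ConcreteCategory.isIso_iff_bijective c).2 ?_
      have : ⇑c.hom = fun z => z * c.hom (Ideal.Quotient.mk m 1) := funext (hmul c)
      show Function.Bijective ⇑c.hom
      rw [this]
      exact mulRight_bijective₀ _ hc0
    haveI : IsIso ((QCohCat.isQCoh X).ι.map x) := by
      show IsIso x.hom
      rw [hc]
      exact inferInstanceAs (IsIso (F.map ((tilde.functor Γ(X, U)).map c)))
    exact isIso_of_reflects_iso x (QCohCat.isQCoh X).ι
  let f : gen e ⟶ Q := ObjectProperty.homMk ((Θ S).symm a)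
  have hf : f ≠ 0 := fun h => ha (by
    have h1 : (Θ S).symm a = 0 := congrArg (fun z : gen e ⟶ Q => z.hom) h
    have h2 : a = Θ S 0 := by rw [← h1, Equiv.apply_symm_apply]
    rw [h2, ← comp_zero (f := (Θ S).symm a), ← chartMap_zero hU S S, hΘ, ModuleCat.hom_zero, LinearMap.zero_comp])
  obtain ⟨x, hx⟩ := exists_comp_eq e hcomm hinv hf (ObjectProperty.homMk ((Θ S).symm b) : gen e ⟶ Q)
  obtain ⟨c, hc⟩ := hsur x
  refine ⟨c.hom, ?_⟩
  have h1 : (Θ S).symm a ≫ chartMap hU c = (Θ S).symm b :=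
    (congrArg ((Θ S).symm a ≫ ·) hc.symm).trans (congrArg (fun z : gen e ⟶ Q => z.hom) hx)
  have h2 := congrArg (Θ S) h1
  rwa [hΘ, Equiv.apply_symm_apply, Equiv.apply_symm_apply] at h2

theorem finite_sections_genMod {U : X.Opens} (hU : IsAffineOpen U) :
    Module.Finite Γ(X, U) Γ(genMod e, U) := by
  classical
  haveI := isQCoh_genMod e
  let ι := Σ G : {G : QCohCat.QCoh X // SerreDual.isFTQ X G}, G.1 ⟶ gen e
  obtain ⟨n, p, hp⟩ := exists_finite_of_epi_family e (ι := ι) (G := fun i => i.1.1) (fun i => i.2)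
    fun Q q hq => SerreDual.isSeparating_isFTQ X q 0 fun G hG g => by
      rw [comp_zero]; exact hq ⟨⟨G, hG⟩, g⟩
  haveI : ∀ k, Module.Finite Γ(X, U) Γ((p k).1.1.1.obj, U) := fun k => by
    haveI : Coh.IsQCoh (p k).1.1.1.obj := (p k).1.1.1.property
    exact finite_sections _ (locallyFinGen_of_isFT _ (p k).1.1.2) hU
  let g : ∀ k, Γ((p k).1.1.1.obj, U) →ₗ[Γ(X, U)] Γ(genMod e, U) := fun k =>
    { toFun := fun s => (p k).1.2.hom.app U s
      map_add' := fun s t => map_add _ s t
      map_smul' := fun r s => Scheme.Modules.Hom.app_smul _ r s }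
  refine Module.Finite.of_surjective (LinearMap.lsum Γ(X, U) (fun k => Γ((p k).1.1.1.obj, U)) Γ(X, U) g) fun x =>
    ⟨fun k => (p k).2.hom.app U x, ?_⟩
  rw [LinearMap.lsum_apply]
  simp only [LinearMap.coe_sum, Finset.sum_apply, LinearMap.coe_comp, Function.comp_apply, LinearMap.proj_apply]
  let ev : (gen e ⟶ gen e) →+ Γ(genMod e, U) := AddMonoidHom.mk' (fun a => a.hom.app U x) fun a b => rfl
  have h := congrArg ev hp
  rw [map_sum] at h
  exact h

theorem exists_cyclic {U : X.Opens} (hU : IsAffineOpen U) (m : Ideal Γ(X, U)) [m.IsMaximal] :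
    ∃ (p : Γ(genMod e, U)) (f : Γ(X, U)), f ∉ m ∧ ∀ x, f • x ∈ Submodule.span Γ(X, U) {p} := by
  classical
  let B := Γ(X, U)
  let M := Γ(genMod e, U)
  haveI : Module.Finite B M := finite_sections_genMod e hU
  letI := Ideal.Quotient.field m
  let V := M ⧸ (m • ⊤ : Submodule B M)
  let q : M →ₗ[B] V := (m • ⊤ : Submodule B M).mkQ
  have hqs : Function.Surjective q := Submodule.mkQ_surjective _
  have hline : ∃ p : M, ∀ x : M, q x ∈ Submodule.span (B ⧸ m) {q p} := by
    by_cases h0 : ∀ x : M, q x = 0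
    · exact ⟨0, fun x => by rw [h0 x]; simp⟩
    · obtain ⟨p, hp⟩ := not_forall.1 h0
      refine ⟨p, fun x => ?_⟩
      by_contra hx
      obtain ⟨β, hβx, hβ⟩ := Submodule.exists_dual_map_eq_bot_of_notMem hx inferInstance
      obtain ⟨α, hα⟩ : ∃ α : Module.Dual (B ⧸ m) V, α (q p) ≠ 0 := Module.Projective.exists_dual_ne_zero _ hp
      obtain ⟨c, hc⟩ := exists_scalar e hU m (a := (α.restrictScalars B) ∘ₗ q)
        (fun h => hα (LinearMap.congr_fun h p)) ((β.restrictScalars B) ∘ₗ q)
      have hmul : ∀ z : B ⧸ m, c z = z * c 1 := fun z => by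
        obtain ⟨r, rfl⟩ := Ideal.Quotient.mk_surjective z
        have hr : (Ideal.Quotient.mk m r : B ⧸ m) = r • (1 : B ⧸ m) := by rw [Algebra.smul_def, mul_one]; rfl
        conv_lhs => rw [hr, map_smul]
        rw [Algebra.smul_def]
        rfl
      have hbp : β (q p) = 0 := by
        have : β (q p) ∈ Submodule.map β (Submodule.span (B ⧸ m) {q p}) :=
          Submodule.mem_map_of_mem (Submodule.mem_span_singleton_self _)
        rwa [hβ, Submodule.mem_bot] at this
      have h1 : c (α (q p)) = 0 := (LinearMap.congr_fun hc p).trans hbp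
      have h2 : c 1 = 0 := by
        rw [hmul] at h1
        exact (mul_eq_zero.1 h1).resolve_left hα
      exact hβx ((LinearMap.congr_fun hc x).symm.trans (by
        show c _ = 0
        rw [hmul, h2, mul_zero]))
  obtain ⟨p, hp⟩ := hline
  let N : Submodule B M := Submodule.span B {p}
  have hle : (⊤ : Submodule B (M ⧸ N)) ≤ m • ⊤ := by
    intro z _
    obtain ⟨x, rfl⟩ := Submodule.mkQ_surjective N z
    obtain ⟨c, hc⟩ := Submodule.mem_span_singleton.1 (hp x)
    obtain ⟨r, rfl⟩ := Ideal.Quotient.mk_surjective c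
    have hmem : x - r • p ∈ (m • ⊤ : Submodule B M) := by
      refine (Submodule.Quotient.mk_eq_zero _).1 ?_
      show q (x - r • p) = 0
      rw [map_sub, map_smul, sub_eq_zero, ← hc]
      exact algebraMap_smul (B ⧸ m) r (q p)
    have h2 := Submodule.mem_map_of_mem (f := N.mkQ) hmem
    rw [Submodule.map_smul'', Submodule.map_top, Submodule.range_mkQ, map_sub, map_smul,
      show N.mkQ p = 0 from (Submodule.Quotient.mk_eq_zero N).2 (Submodule.mem_span_singleton_self p),
      smul_zero, sub_zero] at h2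
    exact h2
  obtain ⟨f, hf1, hf2⟩ := Submodule.exists_sub_one_mem_and_smul_eq_zero_of_fg_of_le_smul m ⊤
    Module.Finite.fg_top hle
  refine ⟨p, f, fun hf => ‹m.IsMaximal›.ne_top ((Ideal.eq_top_iff_one m).2 ?_), fun x =>
    (Submodule.Quotient.mk_eq_zero N).1 ((map_smul N.mkQ f x).trans (hf2 _ trivial))⟩
  simpa using sub_mem hf hf1

end Groth.Agent.QCohAff14
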